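import Mathlib
import Groth.Agent.TorBalLib.Basic

/-! Flatness from vanishing of Tor against a quotient and flatness on the punctured part. -/

universe u

open CategoryTheory CategoryTheory.Limits MonoidalCategory TensorProduct LinearMap

namespace TorFlatLib

variable {A : Type u} [CommRing A] {M : ModuleCat.{u} A} (P : ProjectiveResolution M)

/-- Exactness of `P ⊗ N` in degree `p + 1`. -/
def E (p : ℕ) (N : Type u) [AddCommGroup N] [Module A N] : Prop :=
  Function.Exact ((P.complex.d (p + 2) (p + 1)).hom.rTensor N) ((P.complex.d (p + 1) p).hom.rTensor N)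

theorem comm {X Y X' Y' : Type u} [AddCommGroup X] [Module A X] [AddCommGroup Y] [Module A Y]
    [AddCommGroup X'] [Module A X'] [AddCommGroup Y'] [Module A Y'] (f : X →ₗ[A] Y) (g : X' →ₗ[A] Y')
    (z : X ⊗[A] X') : g.lTensor Y (f.rTensor X' z) = f.rTensor Y' (g.lTensor X z) := by
  rw [← LinearMap.comp_apply, ← LinearMap.comp_apply, lTensor_comp_rTensor, rTensor_comp_lTensor]

theorem d_d (N : Type u) [AddCommGroup N] [Module A N] (i j k : ℕ) (z : P.complex.X i ⊗[A] N) :
    (P.complex.d j k).hom.rTensor N ((P.complex.d i j).hom.rTensor N z) = 0 := by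
  rw [← LinearMap.comp_apply, ← rTensor_comp, ← ModuleCat.hom_comp, HomologicalComplex.d_comp_d]
  simp

variable {K F Q : Type u} [AddCommGroup K] [Module A K] [AddCommGroup F] [Module A F] [AddCommGroup Q] [Module A Q]
  (ι : K →ₗ[A] F) (π : F →ₗ[A] Q) (hι : Function.Injective ι) (hex : Function.Exact ι π) (hπ : Function.Surjective π)

theorem flatX (n : ℕ) : Module.Flat A (P.complex.X n) := by
  have : Module.Projective A (P.complex.X n) := (IsProjective.iff_projective _).2 (P.projective n)
  infer_instance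

include hι in
theorem inj (n : ℕ) : Function.Injective (ι.lTensor (P.complex.X n)) :=
  have := flatX P n
  Module.Flat.lTensor_preserves_injective_linearMap ι hι

include hι hex hπ in
theorem left (p : ℕ) (hF : E P p F) (hQ : E P (p + 1) Q) : E P p K := by
  intro z
  refine ⟨fun hz => ?_, by rintro ⟨w, rfl⟩; exact d_d P K _ _ _ w⟩
  obtain ⟨w, hw⟩ := (hF (ι.lTensor _ z)).1 (by rw [← comm, hz, map_zero])
  obtain ⟨v, hv⟩ := (hQ (π.lTensor _ w)).1 (by
    rw [← comm, hw, ← LinearMap.comp_apply, ← lTensor_comp, hex.linearMap_comp_eq_zero]; simp)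
  obtain ⟨v', rfl⟩ := lTensor_surjective (P.complex.X (p + 3)) hπ v
  obtain ⟨u', hu'⟩ := (lTensor_exact (P.complex.X (p + 2)) hex hπ (w - (P.complex.d (p + 3) (p + 2)).hom.rTensor F v')).1 (by
    rw [map_sub, comm, hv, sub_self])
  refine ⟨u', inj P ι hι (p + 1) ?_⟩
  rw [comm, hu', map_sub, d_d, sub_zero, hw]

include hι hex hπ in
theorem middle (p : ℕ) (hK : E P p K) (hQ : E P p Q) : E P p F := by
  intro z
  refine ⟨fun hz => ?_, by rintro ⟨w, rfl⟩; exact d_d P F _ _ _ w⟩
  obtain ⟨w, hw⟩ := (hQ (π.lTensor _ z)).1 (by rw [← comm, hz, map_zero])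
  obtain ⟨w', rfl⟩ := lTensor_surjective (P.complex.X (p + 2)) hπ w
  obtain ⟨v, hv⟩ := (lTensor_exact (P.complex.X (p + 1)) hex hπ (z - (P.complex.d (p + 2) (p + 1)).hom.rTensor F w')).1 (by
    rw [map_sub, comm, hw, sub_self])
  obtain ⟨t, ht⟩ := (hK v).1 (inj P ι hι p (by rw [comm, hv, map_sub, d_d, sub_zero, hz, map_zero]))
  refine ⟨ι.lTensor _ t + w', ?_⟩
  rw [map_add, ← comm, ht, hv, sub_add_cancel]

include hι hex hπ in
theorem right (p : ℕ) (hF : E P (p + 1) F) (hK : E P p K) : E P (p + 1) Q := by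
  intro z
  refine ⟨fun hz => ?_, by rintro ⟨w, rfl⟩; exact d_d P Q _ _ _ w⟩
  obtain ⟨w, rfl⟩ := lTensor_surjective (P.complex.X (p + 2)) hπ z
  obtain ⟨v, hv⟩ := (lTensor_exact (P.complex.X (p + 1)) hex hπ ((P.complex.d (p + 2) (p + 1)).hom.rTensor F w)).1 (by
    rw [comm, hz])
  obtain ⟨t, ht⟩ := (hK v).1 (inj P ι hι p (by rw [comm, hv, d_d, map_zero]))
  obtain ⟨s, hs⟩ := (hF (w - ι.lTensor _ t)).1 (by rw [map_sub, ← comm, ht, hv, sub_self])
  refine ⟨π.lTensor _ s, ?_⟩
  rw [← comm, hs, map_sub, ← LinearMap.comp_apply (π.lTensor _) (ι.lTensor _), ← lTensor_comp, hex.linearMap_comp_eq_zero]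
  simp

/-- the augmentation -/
noncomputable abbrev aug : P.complex.X 0 →ₗ[A] M := (P.π.f 0).hom

theorem aug_surjective : Function.Surjective (aug P) := (ModuleCat.epi_iff_surjective (P.π.f 0)).1 inferInstance

theorem aug_exact : Function.Exact (P.complex.d 1 0).hom (aug P) :=
  (ShortComplex.ShortExact.moduleCat_exact_iff_function_exact _).1
    (ShortComplex.exact_of_g_is_cokernel (S := ShortComplex.mk _ _ P.complex_d_comp_π_f_zero) P.isColimitCokernelCofork)

include hι hex hπ in
theorem right_zero (hF : E P 0 F) (hinj : Function.Injective (ι.lTensor M)) : E P 0 Q := by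
  intro z
  refine ⟨fun hz => ?_, by rintro ⟨w, rfl⟩; exact d_d P Q _ _ _ w⟩
  obtain ⟨w, rfl⟩ := lTensor_surjective (P.complex.X 1) hπ z
  obtain ⟨v, hv⟩ := (lTensor_exact (P.complex.X 0) hex hπ ((P.complex.d 1 0).hom.rTensor F w)).1 (by
    rw [comm, hz])
  obtain ⟨t, ht⟩ := ((rTensor_exact K (aug_exact P) (aug_surjective P)) v).1 (hinj (by
    rw [comm, hv, ← LinearMap.comp_apply, ← rTensor_comp, (aug_exact P).linearMap_comp_eq_zero]; simp))
  obtain ⟨s, hs⟩ := (hF (w - ι.lTensor _ t)).1 (by rw [map_sub, ← comm, ht, hv, sub_self])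
  refine ⟨π.lTensor _ s, ?_⟩
  rw [← comm, hs, map_sub, ← LinearMap.comp_apply (π.lTensor _) (ι.lTensor _), ← lTensor_comp, hex.linearMap_comp_eq_zero]
  simp

include hι hex hπ in
theorem injective_of_zero (hQ : E P 0 Q) : Function.Injective (ι.lTensor M) := by
  refine (injective_iff_map_eq_zero _).2 fun u hu => ?_
  obtain ⟨u0, rfl⟩ := rTensor_surjective K (aug_surjective P) u
  rw [comm] at hu
  obtain ⟨v, hv⟩ := ((rTensor_exact F (aug_exact P) (aug_surjective P)) _).1 hu
  obtain ⟨w, hw⟩ := (hQ (π.lTensor _ v)).1 (by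
    rw [← comm, hv, ← LinearMap.comp_apply, ← lTensor_comp, hex.linearMap_comp_eq_zero]; simp)
  obtain ⟨w', rfl⟩ := lTensor_surjective (P.complex.X 2) hπ w
  obtain ⟨v', hv'⟩ := (lTensor_exact (P.complex.X 1) hex hπ (v - (P.complex.d 2 1).hom.rTensor F w')).1 (by
    rw [map_sub, comm, hw, sub_self])
  have h : u0 = (P.complex.d 1 0).hom.rTensor K v' := inj P ι hι 0 (by
    rw [comm, hv', map_sub, d_d, sub_zero, hv])
  rw [h, ← LinearMap.comp_apply, ← rTensor_comp, (aug_exact P).linearMap_comp_eq_zero]
  simp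

theorem of_fg (p : ℕ) {N : Type u} [AddCommGroup N] [Module A N]
    (h : ∀ N0 : Submodule A N, N0.FG → E P p N0) : E P p N := by
  intro z
  refine ⟨fun hz => ?_, by rintro ⟨w, rfl⟩; exact d_d P N _ _ _ w⟩
  obtain ⟨N0, hfin, hN⟩ := TensorProduct.exists_finite_submodule_right_of_setFinite {z} (Set.finite_singleton z)
  obtain ⟨z0, rfl⟩ := hN rfl
  obtain ⟨w, hw⟩ := ((h N0 (Module.Finite.iff_fg.1 hfin)) z0).1 (inj P N0.subtype Subtype.val_injective p (by
    rw [comm, hz, map_zero]))
  exact ⟨N0.subtype.lTensor _ w, by rw [← comm, hw]⟩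

theorem congr (p : ℕ) {N N' : Type u} [AddCommGroup N] [Module A N] [AddCommGroup N'] [Module A N']
    (e : N ≃ₗ[A] N') (h : E P p N) : E P p N' := by
  intro z
  refine ⟨fun hz => ?_, by rintro ⟨w, rfl⟩; exact d_d P N' _ _ _ w⟩
  have he : e.symm.toLinearMap.lTensor _ z ∈ Set.range ((P.complex.d (p + 2) (p + 1)).hom.rTensor N) :=
    (h _).1 (by rw [← comm, hz, map_zero])
  obtain ⟨w, hw⟩ := he
  refine ⟨e.toLinearMap.lTensor _ w, ?_⟩
  rw [← comm, hw, ← LinearMap.comp_apply, ← lTensor_comp, LinearEquiv.comp_coe, e.symm_trans_self]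
  simp

/-- modules killed by `I` -/
theorem killed (I : Ideal A) (hflat : Module.Flat (A ⧸ I) ((A ⧸ I) ⊗[A] M)) (r : ℕ)
    (h3 : ∀ p ≤ r, E P p (A ⧸ I)) : ∀ p ≤ r, ∀ (N : Type u) [AddCommGroup N] [Module A N],
      (∀ a ∈ I, ∀ x : N, a • x = 0) → E P p N := by
  intro p
  induction p using Nat.strong_induction_on with
  | h p ih =>
    intro hp N _ _ hN
    refine of_fg P p fun N0 hfg => ?_
    suffices H : ∀ (n : ℕ) (X : Type u) [AddCommGroup X] [Module A X], (∀ a ∈ I, ∀ x : X, a • x = 0) →
        ∀ v : Fin n → X, Submodule.span A (Set.range v) = ⊤ → E P p X by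
      have : Module.Finite A N0 := Module.Finite.iff_fg.2 hfg
      obtain ⟨n, v, hv⟩ := Module.Finite.exists_fin (R := A) (M := N0)
      exact H n N0 (fun a ha x => Subtype.ext (hN a ha x)) v hv
    intro n
    induction n with
    | zero =>
      intro X _ _ hX v hv
      have : Subsingleton X := by
        rw [← Submodule.subsingleton_iff A]
        refine subsingleton_of_bot_eq_top ?_
        rw [← hv, Set.range_eq_empty, Submodule.span_empty]
      intro z
      exact ⟨fun _ => ⟨0, Subsingleton.elim _ _⟩, fun _ => Subsingleton.elim _ _⟩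
    | succ n ihn =>
      intro X _ _ hX v hv
      let X1 : Submodule A X := Submodule.span A (Set.range (v ∘ Fin.castSucc))
      refine middle P X1.subtype X1.mkQ Subtype.val_injective (exact_subtype_mkQ X1) X1.mkQ_surjective p
        (ihn X1 (fun a ha x => Subtype.ext (hX a ha x)) (fun i => ⟨v i.castSucc, Submodule.subset_span ⟨i, rfl⟩⟩) ?_) ?_
      · refine Submodule.map_injective_of_injective X1.injective_subtype ?_
        rw [Submodule.map_span, Submodule.map_top, Submodule.range_subtype, ← Set.range_comp]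
        rfl
      · -- the cyclic quotient
        let g : X ⧸ X1 := X1.mkQ (v (Fin.last n))
        let ψ : A →ₗ[A] X ⧸ X1 := toSpanSingleton A _ g
        have hψI : I ≤ LinearMap.ker ψ := fun a ha => by
          show a • g = 0
          rw [← map_smul, hX a ha, map_zero]
        let π := Submodule.liftQ I ψ hψI
        have hπ : Function.Surjective π := by
          have htop : Submodule.span A {g} = ⊤ := by
            rw [← Submodule.range_mkQ X1, ← Submodule.map_top, ← hv, Submodule.map_span]
            refine le_antisymm (Submodule.span_mono (by rintro _ rfl; exact ⟨_, ⟨_, rfl⟩, rfl⟩)) (Submodule.span_le.2 ?_)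
            rintro _ ⟨_, ⟨i, rfl⟩, rfl⟩
            induction i using Fin.lastCases with
            | last => exact Submodule.subset_span rfl
            | cast j =>
              have : X1.mkQ (v j.castSucc) = 0 := (Submodule.Quotient.mk_eq_zero X1).2 (Submodule.subset_span ⟨j, rfl⟩)
              rw [this]; exact zero_mem _
          intro x
          obtain ⟨a, ha⟩ := Submodule.mem_span_singleton.1 (htop.ge (Submodule.mem_top : x ∈ ⊤))
          exact ⟨Ideal.Quotient.mk I a, ha⟩
        match p, hp, ih with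
        | 0, hp, _ =>
          refine right_zero P (LinearMap.ker π).subtype π Subtype.val_injective (exact_subtype_ker_map π) hπ (h3 0 hp) ?_
          let Kb : Submodule (A ⧸ I) (A ⧸ I) :=
            { (LinearMap.ker π).toAddSubmonoid with
              smul_mem' := fun c x hx => by
                obtain ⟨a, rfl⟩ := Ideal.Quotient.mk_surjective c
                exact (LinearMap.ker π).smul_mem a hx }
          let e1 : M ⊗[A] (A ⧸ I) ≃ₗ[A] (A ⧸ I) ⊗[A ⧸ I] ((A ⧸ I) ⊗[A] M) :=
            TensorProduct.comm A _ _ ≪≫ₗ ((AlgebraTensorModule.cancelBaseChange A (A ⧸ I) (A ⧸ I) (A ⧸ I) M).symm.restrictScalars A)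
          let e2 : M ⊗[A] Kb ≃ₗ[A] Kb ⊗[A ⧸ I] ((A ⧸ I) ⊗[A] M) :=
            TensorProduct.comm A _ _ ≪≫ₗ ((AlgebraTensorModule.cancelBaseChange A (A ⧸ I) (A ⧸ I) Kb M).symm.restrictScalars A)
          have hcomm : ∀ x : M ⊗[A] Kb, e1 ((Kb.subtype.restrictScalars A).lTensor M x) = Kb.subtype.rTensor _ (e2 x) := by
            intro x
            induction x with
            | zero => simp
            | tmul m k => simp [e1, e2]
            | add x y hx hy => simp only [map_add, hx, hy]
          have hinjb : Function.Injective ((Kb.subtype.restrictScalars A).lTensor M) := fun x y hxy =>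
            e2.injective (Module.Flat.rTensor_preserves_injective_linearMap Kb.subtype Kb.injective_subtype
              (by rw [← hcomm, ← hcomm, hxy]))
          exact hinjb
        | q + 1, hp, ih =>
          refine right P (LinearMap.ker π).subtype π Subtype.val_injective (exact_subtype_ker_map π) hπ q (h3 _ hp) ?_
          exact ih q (by omega) (by omega) _ fun a ha x => Subtype.ext (by
            obtain ⟨y, hy⟩ := Ideal.Quotient.mk_surjective (x : A ⧸ I)
            show a • (x : A ⧸ I) = 0
            rw [← hy, ← Ideal.Quotient.mk_eq_mk, ← Submodule.Quotient.mk_smul, Submodule.Quotient.mk_eq_zero]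
            exact I.mul_mem_right y ha)

/-- modules killed by a power of `I` -/
theorem killed_pow (I : Ideal A) (p : ℕ) (h : ∀ (N : Type u) [AddCommGroup N] [Module A N], (∀ a ∈ I, ∀ x : N, a • x = 0) → E P p N) :
    ∀ (k : ℕ) (N : Type u) [AddCommGroup N] [Module A N], (∀ a ∈ I ^ k, ∀ x : N, a • x = 0) → E P p N := by
  intro k
  induction k with
  | zero =>
    intro N _ _ hN
    have : Subsingleton N := subsingleton_of_forall_eq 0 fun x => by
      have := hN 1 (by simp) x
      rwa [one_smul] at this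
    intro z
    exact ⟨fun _ => ⟨0, Subsingleton.elim _ _⟩, fun _ => Subsingleton.elim _ _⟩
  | succ k ih =>
    intro N _ _ hN
    let N' : Submodule A N := I • ⊤
    refine middle P N'.subtype N'.mkQ Subtype.val_injective (exact_subtype_mkQ N') N'.mkQ_surjective p (ih N' fun a ha x => ?_)
      (h (N ⧸ N') fun a ha x => ?_)
    · obtain ⟨x, hx⟩ := x
      refine Subtype.ext ?_
      show a • x = 0
      refine Submodule.smul_induction_on hx (fun b hb y _ => ?_) (fun y z hy hz => by rw [smul_add, hy, hz, add_zero])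
      rw [smul_smul]
      exact hN _ (by rw [pow_succ]; exact Ideal.mul_mem_mul ha hb) y
    · obtain ⟨y, rfl⟩ := N'.mkQ_surjective x
      rw [← map_smul]
      exact (Submodule.Quotient.mk_eq_zero N').2 (Submodule.smul_mem_smul ha trivial)

/-- homology of `P ⊗ N` -/
noncomputable abbrev cx (N : ModuleCat.{u} A) : ChainComplex (ModuleCat.{u} A) ℕ :=
  (((tensorRight N).mapHomologicalComplex (ComplexShape.down ℕ))).obj P.complex

theorem E_iff_isZero (p : ℕ) (N : ModuleCat.{u} A) : E P p N ↔ IsZero ((cx P N).homology (p + 1)) := by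
  rw [← (cx P N).exactAt_iff_isZero_homology, (cx P N).exactAt_iff' (p + 2) (p + 1) p (by simp [ChainComplex.prev]) (by simp),
    ShortComplex.ShortExact.moduleCat_exact_iff_function_exact]
  rfl

theorem E_of_tor (p : ℕ) (N : Type u) [AddCommGroup N] [Module A N]
    (h : IsZero (((Tor (ModuleCat.{u} A) (p + 1)).obj M).obj (ModuleCat.of A N))) : E P p N := by
  obtain ⟨e⟩ := TorBalLib.nonempty_tor_iso M (ModuleCat.of A N) P (p + 1)
  exact (E_iff_isZero P p (ModuleCat.of A N)).2 (h.of_iso e.symm)

theorem classes {K : ChainComplex (ModuleCat.{u} A) ℕ} (i : ℕ) :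
    (∀ h : K.homology i, ∃ z, K.homologyπ i z = h) ∧
      ∀ (n : A) (z : K.cycles i), n • K.homologyπ i z = 0 ↔
        n • K.iCycles i z ∈ LinearMap.range (K.sc i).f.hom := by
  refine ⟨(ModuleCat.epi_iff_surjective (K.homologyπ i)).1 inferInstance, fun n z => ?_⟩
  have h1 : ∀ w, (K.sc i).homologyι ((K.sc i).homologyπ w) = (K.sc i).pOpcycles ((K.sc i).iCycles w) := fun w =>
    congrArg (fun f : (K.sc i).cycles ⟶ (K.sc i).opcycles => f w) (K.sc i).homology_π_ι
  rw [← map_smul (K.homologyπ i).hom]
  show (K.sc i).homologyπ (n • z) = 0 ↔ _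
  rw [← (injective_iff_map_eq_zero' _).1 ((ModuleCat.mono_iff_injective (K.sc i).homologyι).1 inferInstance),
    h1, ShortComplex.moduleCat_pOpcycles_eq_zero_iff]
  exact Iff.of_eq (congrArg (· ∈ LinearMap.range (K.sc i).f.hom) (map_smul (K.iCycles i).hom n z))

theorem symm_smul_tensor (f : A) {Y : Type u} [AddCommGroup Y] [Module A Y] (me : Y ≃ₗ[A] Y) (hme : ∀ y, me y = f • y)
    (X : Type u) [AddCommGroup X] [Module A X] (t : X ⊗[A] Y) : me.symm.toLinearMap.lTensor X (f • t) = t := by
  induction t with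
  | zero => simp
  | tmul x y => rw [← tmul_smul, ← hme, lTensor_tmul, LinearEquiv.coe_coe, LinearEquiv.symm_apply_apply]
  | add x y hx hy => rw [smul_add, map_add, hx, hy]

/-- modules on which an element of the punctured part is invertible -/
theorem unit (p : ℕ) (f : A) [Module.Flat A (LocalizedModule (Submonoid.powers f) M)] (Y : Type u) [AddCommGroup Y] [Module A Y]
    (hY : Function.Bijective (fun y : Y => f • y)) : E P p Y := by
  let Yc := ModuleCat.of A Y
  let Q := projectiveResolution Yc
  let T := (tensoringLeft (ModuleCat.{u} A)).obj M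
  let KQ := (T.mapHomologicalComplex (ComplexShape.down ℕ)).obj Q.complex
  obtain ⟨e0⟩ := TorBalLib.nonempty_tor_iso M Yc P (p + 1)
  let e : KQ.homology (p + 1) ≅ (cx P Yc).homology (p + 1) := (Q.isoLeftDerivedObj T (p + 1)).symm ≪≫ e0
  let m : Y →ₗ[A] Y := f • LinearMap.id
  let me : Y ≃ₗ[A] Y := LinearEquiv.ofBijective m hY
  have hinj : ∀ h : (cx P Yc).homology (p + 1), f • h = 0 → h = 0 := by
    intro h hh
    obtain ⟨z, rfl⟩ := (classes (p + 1)).1 h
    obtain ⟨w, hw⟩ := ((classes (p + 1)).2 f z).1 hh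
    rw [← one_smul A ((cx P Yc).homologyπ (p + 1) z)]
    refine ((classes (p + 1)).2 1 z).2 ⟨me.symm.toLinearMap.lTensor (P.complex.X _) w, ?_⟩
    have hw' : (P.complex.d _ (p + 1)).hom.rTensor Y w = f • (cx P Yc).iCycles (p + 1) z := hw
    show (P.complex.d _ (p + 1)).hom.rTensor Y (me.symm.toLinearMap.lTensor _ w) = (1 : A) • (cx P Yc).iCycles (p + 1) z
    rw [← comm, hw', one_smul]
    exact symm_smul_tensor f me (fun y => rfl) (P.complex.X (p + 1)) _
  have htors : ∀ h : KQ.homology (p + 1), ∃ n : ℕ, f ^ n • h = 0 := by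
    intro h
    obtain ⟨z, rfl⟩ := (classes (p + 1)).1 h
    let loc := LocalizedModule.mkLinearMap (Submonoid.powers f) M
    let L := LocalizedModule (Submonoid.powers f) M
    have hexL : Function.Exact ((Q.complex.d (p + 2) (p + 1)).hom.lTensor L) ((Q.complex.d (p + 1) p).hom.lTensor L) :=
      Module.Flat.lTensor_exact L ((ShortComplex.ShortExact.moduleCat_exact_iff_function_exact _).1 (Q.exact_succ p))
    let zz : (M : Type u) ⊗[A] Q.complex.X (p + 1) := KQ.iCycles (p + 1) z
    have hzz : (Q.complex.d (p + 1) p).hom.lTensor M zz = 0 := congrArg (fun f : KQ.cycles (p + 1) ⟶ KQ.X p => f z) (KQ.iCycles_d (p + 1) p)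
    obtain ⟨w, hw⟩ := (hexL (loc.rTensor _ zz)).1 (by rw [comm, hzz, map_zero])
    haveI : IsLocalizedModule (Submonoid.powers f) (loc.rTensor (Q.complex.X (p + 2))) :=
      inferInstanceAs (IsLocalizedModule (Submonoid.powers f) (AlgebraTensorModule.rTensor A (Q.complex.X (p + 2)) loc))
    haveI : IsLocalizedModule (Submonoid.powers f) (loc.rTensor (Q.complex.X (p + 1))) :=
      inferInstanceAs (IsLocalizedModule (Submonoid.powers f) (AlgebraTensorModule.rTensor A (Q.complex.X (p + 1)) loc))
    obtain ⟨⟨w', s⟩, hw'⟩ := IsLocalizedModule.surj (Submonoid.powers f) (loc.rTensor (Q.complex.X (p + 2))) w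
    have h1 : loc.rTensor _ ((Q.complex.d (p + 2) (p + 1)).hom.lTensor M w') = loc.rTensor _ ((s : A) • zz) := by
      rw [← comm, map_smul, ← hw, ← map_smul ((Q.complex.d (p + 2) (p + 1)).hom.lTensor L), ← hw']
      rfl
    obtain ⟨t, ht⟩ := (IsLocalizedModule.eq_iff_exists (Submonoid.powers f) _).1 h1
    obtain ⟨n, hn⟩ := ((t * s : Submonoid.powers f)).2
    refine ⟨n, ((classes (p + 1)).2 (f ^ n) z).2 ?_⟩
    have hn' : f ^ n = (t : A) * s := hn
    have hlast : (Q.complex.d (p + 2) (p + 1)).hom.lTensor M ((t : A) • w') = f ^ n • zz := by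
      rw [map_smul, hn', mul_smul]
      exact ht
    have hprev : ((ComplexShape.down ℕ).prev (p + 1)) = p + 2 := by simp [ChainComplex.prev]
    show f ^ n • zz ∈ LinearMap.range (KQ.d ((ComplexShape.down ℕ).prev (p + 1)) (p + 1)).hom
    rw [hprev]
    exact ⟨(t : A) • w', hlast⟩
  refine (E_iff_isZero P p Yc).2 ?_
  rw [ModuleCat.isZero_of_iff_subsingleton (M := (cx P Yc).homology (p + 1))]
  refine subsingleton_of_forall_eq 0 fun h => ?_
  obtain ⟨n, hn⟩ := htors (e.toLinearEquiv.symm h)
  rw [← map_smul] at hn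
  have hn0 : f ^ n • h = 0 := e.toLinearEquiv.symm.map_eq_zero_iff.1 hn
  clear hn
  induction n with
  | zero => simpa using hn0
  | succ n ih => exact ih (hinj _ (by rw [smul_smul, ← pow_succ']; exact hn0))

/-- The criterion. -/
theorem main (f : List A) (hloc : ∀ a ∈ f, Module.Flat A (LocalizedModule (Submonoid.powers a) M))
    (hflat : Module.Flat (A ⧸ Ideal.ofList f) ((A ⧸ Ideal.ofList f) ⊗[A] M))
    (h3 : ∀ p ≤ f.length, E P p (A ⧸ Ideal.ofList f)) : Module.Flat A M := by
  classical
  have key : ∀ d j, j + d = f.length → ∀ p ≤ j, ∀ (N : Type u) [AddCommGroup N] [Module A N],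
      (∀ a ∈ f.take j, ∀ x : N, ∃ n : ℕ, a ^ n • x = 0) → E P p N := by
    intro d
    induction d with
    | zero =>
      intro j hj p hp N _ _ hN
      rw [Nat.add_zero] at hj
      rw [hj, List.take_length] at hN
      refine of_fg P p fun N0 hfg => ?_
      have hk : Ideal.ofList f ≤ (N0.annihilator).radical := by
        rw [Ideal.ofList, Ideal.span_le]
        intro a ha
        suffices H : ∀ N1 : Submodule A N, N1.FG → a ∈ N1.annihilator.radical from H N0 hfg
        intro N1 hN1
        induction N1, hN1 using Submodule.fg_induction with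
        | singleton x =>
          obtain ⟨n, hn⟩ := hN a ha x
          exact ⟨n, Submodule.mem_annihilator.2 fun y hy => by
            obtain ⟨c, rfl⟩ := Submodule.mem_span_singleton.1 hy
            rw [smul_comm, hn, smul_zero]⟩
        | sup N1 N2 h1 h2 ih1 ih2 =>
          obtain ⟨n1, hn1⟩ := ih1
          obtain ⟨n2, hn2⟩ := ih2
          refine ⟨n1 + n2, Submodule.mem_annihilator.2 fun y hy => ?_⟩
          obtain ⟨y1, hy1, y2, hy2, rfl⟩ := Submodule.mem_sup.1 hy
          rw [pow_add, smul_add, mul_comm, mul_smul, Submodule.mem_annihilator.1 hn1 y1 hy1, mul_comm, mul_smul,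
            Submodule.mem_annihilator.1 hn2 y2 hy2, smul_zero, smul_zero, add_zero]
      have hIfg : (Ideal.ofList f).FG := ⟨f.toFinset, by rw [List.coe_toFinset]⟩
      obtain ⟨k, hk⟩ := Ideal.exists_pow_le_of_le_radical_of_fg hk hIfg
      exact killed_pow P (Ideal.ofList f) p (killed P _ hflat f.length h3 p (by omega)) k N0
        fun a ha x => Subtype.ext (Submodule.mem_annihilator.1 (hk ha) x x.2)
    | succ d ih =>
      intro j hj p hp N _ _ hN
      have hjl : j < f.length := by omega
      set a := f[j] with ha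
      haveI := hloc a (List.getElem_mem hjl)
      let loc := LocalizedModule.mkLinearMap (Submonoid.powers a) N
      have hI : f.take (j + 1) = f.take j ++ [a] := by
        rw [List.take_add_one, List.getElem?_eq_getElem hjl]; rfl
      have hT : ∀ b ∈ f.take (j + 1), ∀ x : LinearMap.ker loc, ∃ n : ℕ, b ^ n • x = 0 := by
        intro b hb x
        rw [hI, List.mem_append, List.mem_singleton] at hb
        rcases hb with hb | rfl
        · obtain ⟨n, hn⟩ := hN b hb x
          exact ⟨n, Subtype.ext hn⟩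
        · have h0 : loc x.1 = loc 0 := by rw [map_zero]; exact x.2
          obtain ⟨⟨t, n, rfl⟩, ht⟩ := (IsLocalizedModule.eq_iff_exists (Submonoid.powers a) loc).1 h0
          exact ⟨n, Subtype.ext (by simpa [Submonoid.smul_def] using ht)⟩
      have hQ : ∀ b ∈ f.take (j + 1), ∀ x : (LocalizedModule (Submonoid.powers a) N ⧸ LinearMap.range loc), ∃ n : ℕ, b ^ n • x = 0 := by
        intro b hb x
        obtain ⟨y, rfl⟩ := Submodule.mkQ_surjective _ x
        obtain ⟨⟨y', t⟩, hy⟩ := IsLocalizedModule.surj (Submonoid.powers a) loc y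
        rw [hI, List.mem_append, List.mem_singleton] at hb
        rcases hb with hb | rfl
        · obtain ⟨n, hn⟩ := hN b hb y'
          refine ⟨n, ?_⟩
          have h0 : b ^ n • y = 0 := by
            have h1 : t • (b ^ n • y) = 0 := by
              rw [smul_comm, hy, ← map_smul, hn, map_zero]
            exact IsLocalizedModule.smul_injective loc t (by
              show t • (b ^ n • y) = t • (0 : LocalizedModule (Submonoid.powers a) N)
              rw [h1, smul_zero])
          rw [← map_smul, h0, map_zero]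
        · obtain ⟨n, hn⟩ := t.2
          refine ⟨n, ?_⟩
          have hn' : a ^ n = (t : A) := hn
          rw [← map_smul, hn']
          exact (Submodule.Quotient.mk_eq_zero _).2 ⟨y', hy.symm⟩
      have hunit : Function.Bijective (fun y : LocalizedModule (Submonoid.powers a) N => a • y) :=
        (Module.End.isUnit_iff _).1 (IsLocalizedModule.map_units loc (⟨a, 1, pow_one a⟩ : Submonoid.powers a))
      refine middle P (LinearMap.ker loc).subtype loc.rangeRestrict Subtype.val_injective
        (by rw [LinearMap.exact_iff, Submodule.range_subtype, LinearMap.ker_rangeRestrict]) loc.surjective_rangeRestrict p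
        (ih (j + 1) (by omega) p (by omega) _ hT) ?_
      exact left P (LinearMap.range loc).subtype (LinearMap.range loc).mkQ Subtype.val_injective
        (exact_subtype_mkQ _) (Submodule.mkQ_surjective _) p (unit P p a _ hunit)
        (ih (j + 1) (by omega) (p + 1) (by omega) _ hQ)
  rw [Module.Flat.iff_lTensor_injective']
  intro J
  exact injective_of_zero P J.subtype J.mkQ Subtype.val_injective (exact_subtype_mkQ J) J.mkQ_surjective
    (key f.length 0 (by omega) 0 le_rfl (A ⧸ J) (by simp))

end TorFlatLib
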